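import Groth.Agent.GrModLib.Twist
import Groth.Agent.GrModLib.Section
import Groth.Agent.GrModLib.QCoh
import Groth.Agent.ProjQuotLib.Basic

/-! Degree-zero localisations of a graded algebra whose high degree pieces are flat. -/

set_option autoImplicit false
set_option linter.style.haveILetI false
set_option linter.unusedSectionVars false
set_option backward.isDefEq.respectTransparency false

universe u

open CategoryTheory TopologicalSpace AlgebraicGeometry Opposite HomogeneousLocalization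
open Groth.Agent.GrModLib

noncomputable section

namespace Groth.Agent.ProjFlatLib

/-- A module exhausted by flat pieces, with vanishing detected by transition maps, is flat. -/
theorem flat_of_pieces {R A T : Type u} [CommRing R] [AddCommGroup A] [Module R A] [AddCommGroup T] [Module R T]
    {K : Type*} (N : K → Submodule R A) (hN : ∀ k, Module.Flat R (N k)) (π : ∀ k, N k →ₗ[R] T)
    (surj : ∀ {l : ℕ} (x : Fin l → T), ∃ (k : K) (a : Fin l → N k), ∀ i, π k (a i) = x i)
    (ker : ∀ (k : K) (a : N k), π k a = 0 → ∃ (k' : K) (μ : N k →ₗ[R] N k'),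
      (∀ b, π k' (μ b) = π k b) ∧ μ a = 0) : Module.Flat R T := by
  rw [Module.Flat.iff_forall_isTrivialRelation]
  intro l f x h
  obtain ⟨k, a, ha⟩ := surj x
  obtain ⟨k', μ, hμ, hμ0⟩ := ker k (∑ i, f i • a i) (by
    rw [map_sum]; exact (Finset.sum_congr rfl fun i _ => by rw [map_smul, ha]).trans h)
  haveI := hN k'
  obtain ⟨m, c, y, hy, hc⟩ := Module.Flat.isTrivialRelation_of_sum_smul_eq_zero (R := R) (M := N k')
    (f := f) (x := fun i => μ (a i)) (by
      rw [← hμ0, map_sum]; exact Finset.sum_congr rfl fun i _ => (map_smul μ _ _).symm)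
  refine ⟨m, c, fun j => π k' (y j), fun i => ?_, hc⟩
  have hy' : μ (a i) = _ := hy i
  rw [← ha, ← hμ, hy', map_sum]
  exact Finset.sum_congr rfl fun j _ => map_smul _ _ _

/-- A localisation of a flat module is flat over the base. -/
theorem flat_localizedModule {R S M : Type u} [CommRing R] [CommRing S] [Algebra R S] [AddCommGroup M]
    [Module R M] [Module S M] [IsScalarTower R S M] (P : Submonoid S) [Module.Flat R M] :
    Module.Flat R (LocalizedModule P M) := by
  rw [Module.Flat.iff_forall_isTrivialRelation]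
  intro l f x h
  let g := LocalizedModule.mkLinearMap P M
  obtain ⟨s, hs⟩ := IsLocalizedModule.exist_integer_multiples_of_finite P g x
  choose m hm using hs
  have hsum : g (∑ i, f i • m i) = 0 := by
    rw [map_sum]
    calc ∑ i, g (f i • m i) = ∑ i, f i • ((s : S) • x i) :=
          Finset.sum_congr rfl fun i _ => by rw [LinearMap.map_smul_of_tower, hm i]
      _ = (s : S) • ∑ i, f i • x i := by rw [Finset.smul_sum]; exact Finset.sum_congr rfl fun i _ => smul_comm _ _ _
      _ = 0 := by rw [h, smul_zero]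
  obtain ⟨t, ht⟩ := (IsLocalizedModule.eq_zero_iff P g).1 hsum
  obtain ⟨n, c, y, hy, hc⟩ := Module.Flat.isTrivialRelation_of_sum_smul_eq_zero (R := R) (M := M)
    (f := f) (x := fun i => (t : S) • m i) (by
      rw [← ht, Submonoid.smul_def, Finset.smul_sum]
      exact Finset.sum_congr rfl fun i _ => smul_comm _ _ _)
  refine ⟨n, c, fun j => LocalizedModule.mk (y j) (t * s), fun i => ?_, hc⟩
  have hu := IsLocalizedModule.smul_injective (f := g) (t * s)
  apply hu
  show (t * s) • x i = (t * s) • ∑ j, c i j • LocalizedModule.mk (y j) (t * s)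
  rw [Finset.smul_sum]
  calc (t * s) • x i = (t : S) • g (m i) := by rw [hm i, Submonoid.smul_def, Submonoid.coe_mul, mul_smul]
    _ = g (∑ j, c i j • y j) := by rw [← hy i, map_smul]
    _ = ∑ j, (t * s) • c i j • LocalizedModule.mk (y j) (t * s) := by
      rw [map_sum]
      refine Finset.sum_congr rfl fun j _ => ?_
      rw [LinearMap.map_smul_of_tower, smul_comm (t * s) (c i j)]
      congr 1
      rw [Submonoid.smul_def, LocalizedModule.smul'_mk, ← Submonoid.smul_def, LocalizedModule.mk_cancel]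
      rfl

/-! ### The graded pieces -/

variable {R A σ : Type u} [CommRing R] [CommRing A] [Algebra R A] [SetLike σ A] [AddSubgroupClass σ A] {𝒜 : ℕ → σ}
  [GradedRing 𝒜] (hR : ∀ r : R, algebraMap R A r ∈ 𝒜 0)

include hR in
theorem mem_span_deg {i : ℕ} {a : A} : a ∈ Submodule.span R (𝒜 i : Set A) ↔ a ∈ 𝒜 i := by
  refine ⟨fun h => ?_, fun h => Submodule.subset_span h⟩
  induction h using Submodule.span_induction with
  | mem x hx => exact hx
  | zero => exact zero_mem _
  | add x y _ _ hx hy => exact add_mem hx hy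
  | smul r x _ hx =>
    rw [Algebra.smul_def]
    simpa using SetLike.mul_mem_graded (hR r) hx

/-- The degree `i` piece as an `R`-submodule. -/
abbrev piece (R : Type u) [CommRing R] [Algebra R A] (𝒜 : ℕ → σ) (i : ℕ) : Submodule R A :=
  Submodule.span R (𝒜 i : Set A)

variable {d : ℕ} (hd : 0 < d) {f : A} (hf : f ∈ 𝒜 d)

include hf in
theorem fpow (k : ℕ) : f ^ k ∈ 𝒜 (k * d) := by simpa [smul_eq_mul] using SetLike.pow_mem_graded k hf

include hR hd hf in
theorem flat_away (hflat : ∃ d₀ : ℕ, ∀ i, d₀ ≤ i → Module.Flat R (piece R 𝒜 i)) :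
    ((fromZeroRingHom 𝒜 (Submonoid.powers f)).comp
      (RingHom.mk' ⟨⟨fun r => (⟨algebraMap R A r, hR r⟩ : 𝒜 0), Subtype.ext (map_one _)⟩,
        fun x y => Subtype.ext (map_mul _ x y)⟩ fun x y => Subtype.ext (map_add _ x y))).Flat := by
  obtain ⟨d₀, hd₀⟩ := hflat
  set φ := (fromZeroRingHom 𝒜 (Submonoid.powers f)).comp
      (RingHom.mk' ⟨⟨fun r => (⟨algebraMap R A r, hR r⟩ : 𝒜 0), Subtype.ext (map_one _)⟩,
        fun x y => Subtype.ext (map_mul _ x y)⟩ fun x y => Subtype.ext (map_add _ x y))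
  have hφ : ∀ r, (φ r).val = algebraMap R (Localization.Away f) r := fun r => by
    rw [IsScalarTower.algebraMap_apply R A (Localization.Away f), ← Localization.mk_one_eq_algebraMap]
    show HomogeneousLocalization.val (fromZeroRingHom 𝒜 _ _) = _
    rfl
  letI := φ.toAlgebra
  show Module.Flat R (Away 𝒜 f)
  have hmem : ∀ {i : ℕ} (a : piece R 𝒜 i), (a : A) ∈ 𝒜 i := fun a => (mem_span_deg hR).1 a.2
  let π : ∀ k : {k : ℕ // d₀ ≤ k}, piece R 𝒜 (k.1 * d) →ₗ[R] Away 𝒜 f := fun k =>
    { toFun := fun a => Away.mk 𝒜 hf k.1 a.1 (by rw [smul_eq_mul]; exact hmem a)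
      map_add' := fun a b => by
        apply val_injective
        rw [val_add, Away.val_mk, Away.val_mk, Away.val_mk, Localization.add_mk_self]
        rfl
      map_smul' := fun r a => by
        apply val_injective
        show _ = HomogeneousLocalization.val (φ r * _)
        rw [val_mul, hφ, Away.val_mk, Away.val_mk, IsScalarTower.algebraMap_apply R A (Localization.Away f),
          ← Localization.mk_one_eq_algebraMap, Localization.mk_mul, one_mul, Submodule.coe_smul, Algebra.smul_def] }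
  refine flat_of_pieces (fun k : {k : ℕ // d₀ ≤ k} => piece R 𝒜 (k.1 * d))
    (fun k => hd₀ _ (k.2.trans (Nat.le_mul_of_pos_right _ hd))) π (fun {l} x => ?_) (fun k a ha => ?_)
  · choose n a ha hx using fun i => Away.mk_surjective 𝒜 hf (x i)
    let K := d₀ + ∑ i, n i
    have hK : ∀ i, n i ≤ K := fun i =>
      (Finset.single_le_sum (fun j _ => Nat.zero_le (n j)) (Finset.mem_univ i)).trans (Nat.le_add_left _ _)
    refine ⟨⟨K, Nat.le_add_right _ _⟩, fun i => ⟨f ^ (K - n i) * a i, Submodule.subset_span ?_⟩, fun i => ?_⟩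
    · have h := SetLike.mul_mem_graded (fpow hf (K - n i)) (by simpa [smul_eq_mul] using ha i : a i ∈ 𝒜 (n i * d))
      rwa [← add_mul, Nat.sub_add_cancel (hK i)] at h
    · rw [← hx i]
      apply val_injective
      show HomogeneousLocalization.val (Away.mk 𝒜 hf K _ _) = _
      rw [Away.val_mk, Away.val_mk, Localization.mk_eq_mk_iff, Localization.r_iff_exists]
      refine ⟨1, ?_⟩
      simp only [OneMemClass.coe_one, one_mul]
      rw [← mul_assoc, ← pow_add, Nat.add_sub_cancel' (hK i)]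
  · have h := congrArg HomogeneousLocalization.val (show Away.mk 𝒜 hf k.1 a.1 _ = 0 from ha)
    rw [Away.val_mk, val_zero, Localization.mk_eq_mk', IsLocalization.mk'_eq_zero_iff] at h
    obtain ⟨⟨_, j, rfl⟩, hj⟩ := h
    refine ⟨⟨j + k.1, k.2.trans (Nat.le_add_left _ _)⟩, LinearMap.restrict (LinearMap.mulLeft R (f ^ j))
      (fun b hb => Submodule.subset_span ?_), fun b => ?_, Subtype.ext hj⟩
    · have := SetLike.mul_mem_graded (fpow hf j) ((mem_span_deg hR).1 hb)
      rwa [← add_mul] at this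
    · apply val_injective
      show HomogeneousLocalization.val (Away.mk 𝒜 hf _ _ _) = HomogeneousLocalization.val (Away.mk 𝒜 hf _ _ _)
      rw [Away.val_mk, Away.val_mk, Localization.mk_eq_mk_iff, Localization.r_iff_exists]
      refine ⟨1, ?_⟩
      simp only [OneMemClass.coe_one, one_mul, LinearMap.coe_restrict_apply, LinearMap.mulLeft_apply, pow_add]
      ring

include hR hd hf in
theorem flat_sections (hflat : ∃ d₀ : ℕ, ∀ i, d₀ ≤ i → Module.Flat R (piece R 𝒜 i)) (n : ℤ)
    {V : (Proj 𝒜).Opens} (hV : V = Proj.basicOpen 𝒜 f) [Module R Γ(GrMod.tilde 𝒜 𝒜 n, V)]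
    (hsm : ∀ (r : R) (s : Γ(GrMod.tilde 𝒜 𝒜 n, V)) (x : V), valAt (r • s) x = algebraMap R A r • valAt s x) :
    Module.Flat R Γ(GrMod.tilde 𝒜 𝒜 n, V) := by
  subst hV
  obtain ⟨d₀, hd₀⟩ := hflat
  have hmem : ∀ {i : ℕ} (a : piece R 𝒜 i), (a : A) ∈ 𝒜 i := fun a => (mem_span_deg hR).1 a.2
  let k₀ := d₀ + n.natAbs
  let ix : {k : ℕ // k₀ ≤ k} → ℕ := fun k => (((k.1 * d : ℕ) : ℤ) + n).toNat
  have hix : ∀ k, (ix k : ℤ) = ((k.1 * d : ℕ) : ℤ) + n := fun k => Int.toNat_of_nonneg (by
    have h1 : (k.1 : ℤ) ≤ ((k.1 * d : ℕ) : ℤ) := Int.ofNat_le.2 (Nat.le_mul_of_pos_right _ hd)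
    have h2 : (k₀ : ℤ) ≤ k.1 := Int.ofNat_le.2 k.2
    simp only [k₀] at h2
    omega)
  have hix₀ : ∀ k, d₀ ≤ ix k := fun k => by
    have h1 : (k.1 : ℤ) ≤ ((k.1 * d : ℕ) : ℤ) := Int.ofNat_le.2 (Nat.le_mul_of_pos_right _ hd)
    have h2 : (k₀ : ℤ) ≤ k.1 := Int.ofNat_le.2 k.2
    have h3 := hix k
    simp only [k₀] at h2
    omega
  have hle : ∀ k : ℕ, Proj.basicOpen 𝒜 f ≤ Proj.basicOpen 𝒜 (f ^ k) := fun k x hx h =>
    hx (x.isPrime.mem_of_pow_mem k h)
  let π : ∀ k : {k : ℕ // k₀ ≤ k}, piece R 𝒜 (ix k) →ₗ[R] Γ(GrMod.tilde 𝒜 𝒜 n, Proj.basicOpen 𝒜 f) := fun k =>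
    { toFun := fun a => frac 𝒜 𝒜 (⟨a.1, hmem a⟩ : 𝒜 (ix k)) (⟨f ^ k.1, fpow hf _⟩ : 𝒜 (k.1 * d)) n (hix k) (hle _)
      map_add' := fun a b => sect_ext fun x => by
        rw [valAt_add, valAt_frac, valAt_frac, valAt_frac]
        refine ((LocalizedModule.mk_add_mk).trans (LocalizedModule.mk_eq.2 ⟨1, ?_⟩)).symm
        simp only [one_smul, Submodule.coe_add, Submonoid.smul_def, Submonoid.coe_mul, smul_eq_mul]
        ring
      map_smul' := fun r a => sect_ext fun x => by
        rw [RingHom.id_apply, hsm, valAt_frac, valAt_frac, LocalizedModule.smul'_mk]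
        congr 1
        exact Algebra.smul_def r (a : A) }
  have hval : ∀ k a (x : Proj.basicOpen 𝒜 f), valAt (π k a) x =
      LocalizedModule.mk (a : A) ⟨f ^ k.1, hle _ x.2⟩ := fun k a x => rfl
  refine flat_of_pieces (fun k => piece R 𝒜 (ix k)) (fun k => hd₀ _ (hix₀ k)) π (fun {l} x => ?_) (fun k a ha => ?_)
  · choose p i m hi hm using fun j => exists_frac_eq (ℳ := 𝒜) hd hf (x j)
    let K := k₀ + ∑ j, p j
    have hK : ∀ j, p j ≤ K := fun j =>
      (Finset.single_le_sum (fun q _ => Nat.zero_le (p q)) (Finset.mem_univ j)).trans (Nat.le_add_left _ _)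
    refine ⟨⟨K, Nat.le_add_right _ _⟩, fun j => ⟨f ^ (K - p j) * (m j).1, Submodule.subset_span ?_⟩, fun j => ?_⟩
    · have h := SetLike.mul_mem_graded (fpow hf (K - p j)) (m j).2
      have e : (K - p j) * d + i j = ix ⟨K, Nat.le_add_right _ _⟩ := by
        have h1 := hi j
        have h2 := hix ⟨K, Nat.le_add_right _ _⟩
        zify [hK j]
        push_cast at h2
        linarith
      exact e ▸ h
    · refine sect_ext fun y => ?_
      rw [hval, hm j y, LocalizedModule.mk_eq]
      refine ⟨1, ?_⟩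
      simp only [one_smul, Submonoid.smul_def, smul_eq_mul]
      rw [← mul_assoc, ← pow_add, Nat.add_sub_cancel' (hK j)]
  · obtain ⟨N, hN⟩ := exists_pow_smul_eq_zero' (ℳ := 𝒜) hd hf (⟨a.1, hmem a⟩ : 𝒜 (ix k))
      (fun x => ⟨f ^ k.1, hle _ x.2⟩) fun x => by rw [← hval k a x, ha, valAt_zero]
    have hk' : k₀ ≤ N + k.1 := k.2.trans (Nat.le_add_left _ _)
    refine ⟨⟨N + k.1, hk'⟩, LinearMap.restrict (LinearMap.mulLeft R (f ^ N)) (fun b hb => Submodule.subset_span ?_),
      fun b => sect_ext fun x => ?_, Subtype.ext (by simpa using hN)⟩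
    · have h := SetLike.mul_mem_graded (fpow hf N) ((mem_span_deg hR).1 hb)
      have e : N * d + ix k = ix ⟨N + k.1, hk'⟩ := by
        have h1 := hix k
        have h2 := hix ⟨N + k.1, hk'⟩
        push_cast at h1 h2
        zify
        linarith
      exact e ▸ h
    · rw [hval, hval, LocalizedModule.mk_eq]
      refine ⟨1, ?_⟩
      simp only [one_smul, Submonoid.smul_def, smul_eq_mul, LinearMap.coe_restrict_apply, LinearMap.mulLeft_apply, pow_add]
      ring

end Groth.Agent.ProjFlatLib
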